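import Groth.Agent.DescHomLib.Epi
import Groth.Agent.MultLiftLib.Eq
import Groth.Prelude.Def_SGA3x

/-!
Groups of multiplicative type and finite type are stable under base change.
-/

set_option autoImplicit false

noncomputable section

universe u

open CategoryTheory CategoryTheory.Limits MonoidalCategory CartesianMonoidalCategory AlgebraicGeometry
open scoped MonObj

namespace Groth.Agent.DescHom

variable {S T : Scheme.{u}}

theorem nonempty_iso_bc {H : Over S} [GrpObj H] {U U' : Scheme.{u}} {g : U ⟶ S} {M : Type} [AddCommGroup M]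
    (e : Grp.mk (Red.bc g H) ≅ Grp.mk (Red.DS U M)) (p : T ⟶ S) (g' : U' ⟶ T) (l : U' ⟶ U) (hl : l ≫ g = g' ≫ p) :
    Nonempty (Grp.mk (Red.bc g' (Red.bc p H)) ≅ Grp.mk (Red.DS U' M)) := by
  let e₁ : Red.bc g H ≅ Red.DS U M := (Grp.forget _).mapIso e
  haveI : IsMonHom e₁.hom := e.hom.hom.isMonHom_hom
  let a : Red.bc g' (Red.bc p H) ≅ Red.bc (g' ≫ p) H := ActBC.bcCompIso g' p H rfl
  let b : Red.bc l (Red.bc g H) ≅ Red.bc (g' ≫ p) H := ActBC.bcCompIso l g H hl
  let c : Red.bc l (Red.DS U M) ≅ Red.DS U' M := ActBC.bcCompIso l _ _ (specULiftZIsTerminal.hom_ext _ _)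
  haveI : IsMonHom a.hom := ActBC.bcCompIso_isMonHom _ _ _
  haveI : IsMonHom b.hom := ActBC.bcCompIso_isMonHom _ _ _
  haveI : IsMonHom b.inv := inferInstance
  haveI : IsMonHom c.hom := ActBC.bcCompIso_isMonHom _ _ _
  haveI hm : IsMonHom (M := Red.bc l (Red.bc g H)) (N := Red.bc l (Red.DS U M)) ((Over.pullback l).map e₁.hom) :=
    @Functor.map.instIsMonHom _ _ _ _ _ _ (Over.pullback l) _ _ _ _ _ e₁.hom _
  let w : Red.bc g' (Red.bc p H) ≅ Red.DS U' M := a ≪≫ b.symm ≪≫ (Over.pullback l).mapIso e₁ ≪≫ c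
  haveI : IsMonHom w.hom := by
    show IsMonHom (a.hom ≫ b.inv ≫ (Over.pullback l).map e₁.hom ≫ c.hom)
    infer_instance
  exact ⟨Grp.mkIso' w⟩

theorem isMultTypeFT_bc {H : Over S} [GrpObj H] (hH : SGA3x.IsMultTypeFT H) (p : T ⟶ S) :
    SGA3x.IsMultTypeFT (Red.bc p H) := by
  obtain ⟨S', f, hflat, hsurj, hcov, hloc⟩ := hH
  haveI := hflat
  haveI := hsurj
  refine ⟨pullback p f, pullback.fst p f, inferInstance, inferInstance, hcov_pullback_snd f p hcov, fun z => ?_⟩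
  obtain ⟨U, hU, M, hM, hfg, ⟨e⟩⟩ := hloc (pullback.snd p f z)
  refine ⟨(pullback.snd p f) ⁻¹ᵁ U, hU, M, hM, hfg, nonempty_iso_bc e p _ ((pullback.snd p f).resLE U _ le_rfl) ?_⟩
  rw [Scheme.Hom.resLE_comp_ι_assoc, Category.assoc, pullback.condition]

end Groth.Agent.DescHom
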