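import Mathlib

/-!
Fpqc coverings are effective epimorphisms.
-/

set_option autoImplicit false

universe u

open CategoryTheory CategoryTheory.Limits AlgebraicGeometry

namespace Groth.Agent.DescHom

theorem singleton_mem_fpqc {X Y : Scheme.{u}} (f : X ⟶ Y) [Flat f] [Surjective f]
    (hcov : ∀ V : Y.Opens, IsAffineOpen V → ∃ W : X.Opens, IsCompact (W : Set X) ∧ f.base '' (W : Set X) = (V : Set Y)) :
    Presieve.singleton f ∈ Scheme.fpqcPrecoverage Y := by
  refine ⟨?_, ?_⟩
  · let E : Scheme.Cover.{u} _ _ := f.cover (P := ⊤) trivial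
    rw [Scheme.qcPrecoverage, PreZeroHypercoverFamily.mem_precoverage_iff]
    refine ⟨(f.cover (P := ⊤) trivial).toPreZeroHypercover, ?_, by simp⟩
    simp only [Scheme.qcCoverFamily_property]
    refine ⟨fun {U} hU => ?_⟩
    obtain ⟨W, hW, hWU⟩ := hcov U hU
    rw [← hWU]
    exact IsCompactOpenCovered.image (f := fun i => ((f.cover (P := ⊤) trivial).f i))
      (i := PUnit.unit) (W : TopologicalSpace.Opens X) hW
  · rw [Scheme.singleton_mem_precoverage_iff]
    exact ⟨f.surjective, inferInstance⟩

/-- The base change of an fpqc covering is an effective epimorphism. -/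
theorem effectiveEpi_pullback_fst {S S' Z : Scheme.{u}} (f : S' ⟶ S) [Flat f] [Surjective f]
    (hcov : ∀ V : S.Opens, IsAffineOpen V → ∃ W : S'.Opens, IsCompact (W : Set S') ∧ f.base '' (W : Set S') = (V : Set S))
    (g : Z ⟶ S) : EffectiveEpi (pullback.fst g f) := by
  rw [← Sieve.effectiveEpimorphic_singleton, Presieve.EffectiveEpimorphic.iff_forall_isSheafFor_yoneda]
  intro W
  have h := singleton_mem_fpqc f hcov
  have h' : Presieve.singleton (pullback.fst g f) ∈ Scheme.fpqcPrecoverage Z := by
    rw [← Presieve.ofArrows_pUnit.{0}]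
    rw [← Presieve.ofArrows_pUnit.{0}] at h
    exact Precoverage.mem_coverings_of_isPullback (fun _ : PUnit.{1} => f) h g (fun _ => pullback.fst g f)
      (fun _ => pullback.snd g f) fun _ => IsPullback.of_hasPullback g f
  exact (GrothendieckTopology.Subcanonical.isSheaf_of_isRepresentable _).isSheafFor _
    (Precoverage.generate_mem_toGrothendieck h')

end Groth.Agent.DescHom

namespace Groth.Agent.DescHom

/-- Being an fpqc covering in the sense of compact opens is stable under base change. -/
theorem hcov_pullback_snd {X Y T : Scheme.{u}} (f : X ⟶ Y) [Surjective f] (g : T ⟶ Y)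
    (hcov : ∀ V : Y.Opens, IsAffineOpen V → ∃ W : X.Opens, IsCompact (W : Set X) ∧ f.base '' (W : Set X) = (V : Set Y))
    (V : T.Opens) (hV : IsAffineOpen V) :
    ∃ W : (pullback g f).Opens, IsCompact (W : Set ↥(pullback g f)) ∧
      (pullback.fst g f).base '' (W : Set ↥(pullback g f)) = (V : Set T) := by
  let 𝒰 : PreZeroHypercover.{u} Y := (f.cover (P := ⊤) trivial).toPreZeroHypercover
  haveI : QuasiCompactCover 𝒰 := ⟨fun {U} hU => by
    obtain ⟨W, hW, hWU⟩ := hcov U hU
    rw [← hWU]
    exact IsCompactOpenCovered.image (f := fun i => ((f.cover (P := ⊤) trivial).f i))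
      (i := PUnit.unit) (W : TopologicalSpace.Opens X) hW⟩
  haveI : QuasiCompactCover (𝒰.pullback₁ g) := inferInstance
  haveI : Unique (𝒰.pullback₁ g).I₀ := inferInstanceAs (Unique PUnit)
  have h := IsAffineOpen.isCompactOpenCovered (𝒰.pullback₁ g) hV
  rw [IsCompactOpenCovered.iff_of_unique] at h
  exact h

end Groth.Agent.DescHom
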