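import Groth.Agent.DescHomLib.MultBC
import Groth.Agent.TrivLocusLib.Global
import Groth.Agent.SweepSix.GeomConn

/-!
Central homomorphisms from groups of multiplicative type descend along coverings with connected geometric fibres.
-/

set_option autoImplicit false
set_option backward.isDefEq.respectTransparency false

noncomputable section

universe u

open CategoryTheory CategoryTheory.Limits MonoidalCategory CartesianMonoidalCategory AlgebraicGeometry
open scoped MonObj

namespace Groth.Agent.DescHom

variable {S S' : Scheme.{u}} {H G : Over S} [GrpObj H] [GrpObj G] (π : S' ⟶ S)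

/-- Transport of a morphism of base changes to the double covering. -/
def wmap (u' : Red.bc π H ⟶ Red.bc π G) {P : Scheme.{u}} (q : P ⟶ S') (p : P ⟶ S) (h : q ≫ π = p) :
    Red.bc p H ⟶ Red.bc p G :=
  (ActBC.bcCompIso q π H h).inv ≫ (Over.pullback q).map u' ≫ (ActBC.bcCompIso q π G h).hom

theorem isMonHom_wmap (u' : Red.bc π H ⟶ Red.bc π G) [IsMonHom u'] {P : Scheme.{u}} (q : P ⟶ S') (p : P ⟶ S)
    (h : q ≫ π = p) : IsMonHom (wmap π u' q p h) := by
  haveI : IsMonHom (ActBC.bcCompIso q π H h).hom := ActBC.bcCompIso_isMonHom _ _ _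
  haveI : IsMonHom (ActBC.bcCompIso q π G h).hom := ActBC.bcCompIso_isMonHom _ _ _
  haveI : IsMonHom (ActBC.bcCompIso q π H h).inv := inferInstance
  haveI hm : IsMonHom (M := Red.bc q (Red.bc π H)) (N := Red.bc q (Red.bc π G)) ((Over.pullback q).map u') :=
    DiagRep.isMonHom_bc_map q u'
  unfold wmap
  infer_instance

theorem central_wmap {u' : Red.bc π H ⟶ Red.bc π G} (hc : MultLift.Central u') {P : Scheme.{u}} (q : P ⟶ S') (p : P ⟶ S)
    (h : q ≫ π = p) : MultLift.Central (wmap π u' q p h) := by
  have h1 : MultLift.Central (H := Red.bc q (Red.bc π H)) (G := Red.bc q (Red.bc π G)) ((Over.pullback q).map u') :=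
    MultLift.central_bc q hc
  intro X g y
  haveI : IsMonHom (ActBC.bcCompIso q π G h).hom := ActBC.bcCompIso_isMonHom _ _ _
  obtain ⟨g₀, rfl⟩ : ∃ g₀, g₀ ≫ (ActBC.bcCompIso q π G h).hom = g :=
    ⟨g ≫ (ActBC.bcCompIso q π G h).inv, by rw [Category.assoc, Iso.inv_hom_id, Category.comp_id]⟩
  have h2 := congrArg (· ≫ (ActBC.bcCompIso q π G h).hom) (h1 X g₀ (y ≫ (ActBC.bcCompIso q π H h).inv))
  simp only [MonObj.mul_comp, Category.assoc] at h2
  exact h2

/-- The formula for the transported morphism. -/
theorem wmap_fst (u' : Red.bc π H ⟶ Red.bc π G) {P : Scheme.{u}} (q : P ⟶ S') (p : P ⟶ S) (h : q ≫ π = p) :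
    (wmap π u' q p h).left ≫ pullback.fst G.hom p =
      pullback.lift (pullback.fst H.hom p) (pullback.snd H.hom p ≫ q)
        (by rw [Category.assoc, h, pullback.condition]) ≫ u'.left ≫ pullback.fst G.hom π := by
  have hG : ((Over.pullback q).map u').left ≫ (ActBC.bcCompIso q π G h).hom.left ≫ pullback.fst G.hom p =
      pullback.fst (Red.bc π H).hom q ≫ u'.left ≫ pullback.fst G.hom π := by
    rw [ActBC.bcCompIso_hom_left_fst, ← Category.assoc, ActBC.pullback_map_left_fst, Category.assoc]
  have hH : (ActBC.bcCompIso q π H h).inv.left ≫ pullback.fst (Red.bc π H).hom q =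
      pullback.lift (pullback.fst H.hom p) (pullback.snd H.hom p ≫ q)
        (by rw [Category.assoc, h, pullback.condition]) := by
    haveI : IsIso (ActBC.bcCompIso q π H h).hom.left :=
      inferInstanceAs (IsIso ((Over.forget P).map (ActBC.bcCompIso q π H h).hom))
    rw [← cancel_epi (ActBC.bcCompIso q π H h).hom.left, ← Category.assoc, ← Over.comp_left, Iso.hom_inv_id]
    refine pullback.hom_ext ?_ ?_
    · rw [Category.assoc, Category.assoc, pullback.lift_fst, ActBC.bcCompIso_hom_left_fst]
      exact Category.id_comp _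
    · rw [Category.assoc, Category.assoc, pullback.lift_snd, ActBC.bcCompIso_hom_left_snd_assoc, ← pullback.condition]
      exact Category.id_comp _
  rw [← hH, wmap, Over.comp_left, Over.comp_left, Category.assoc, Category.assoc, hG, Category.assoc]

variable [IsSeparated G.hom] [LocallyOfFiniteType G.hom]

/-- The two pullbacks to the double covering agree. -/
theorem wmap_eq [Flat π] [Surjective π] (hH : SGA3x.IsMultTypeFT H)
    (hconn : ∀ s : S, ConnectedSpace ↥(pullback π (Red.geomPt s)))
    (u' : Red.bc π H ⟶ Red.bc π G) [IsMonHom u'] (hc : MultLift.Central u') :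
    wmap π u' (pullback.fst π π) (pullback.fst π π ≫ π) rfl =
      wmap π u' (pullback.snd π π) (pullback.fst π π ≫ π) pullback.condition.symm := by
  let P := pullback π π
  let p : P ⟶ S := pullback.fst π π ≫ π
  let w₁ := wmap π u' (pullback.fst π π) p rfl
  let w₂ := wmap π u' (pullback.snd π π) p pullback.condition.symm
  haveI : IsMonHom w₁ := isMonHom_wmap π u' _ _ _
  haveI : IsMonHom w₂ := isMonHom_wmap π u' _ _ _
  let d := w₁ * w₂⁻¹
  haveI : IsMonHom d := MultLift.isMonHom_mul_inv (central_wmap π hc _ _ _)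
  haveI : IsSeparated (Red.bc p G).hom := inferInstanceAs (IsSeparated (pullback.snd G.hom p))
  haveI : LocallyOfFiniteType (Red.bc p G).hom := inferInstanceAs (LocallyOfFiniteType (pullback.snd G.hom p))
  obtain ⟨O, hO, hmem, htriv⟩ :=
    TrivLocus.exists_locus (u := d) (isMultTypeFT_bc hH p) TrivLocus.eqFinPres_of_lft
  -- the diagonal lies in the locus
  let δ : S' ⟶ P := pullback.lift (𝟙 S') (𝟙 S') rfl
  have hδ : TrivLocus.Triv d δ := by
    intro Y q hq y
    rw [MonObj.comp_mul, GrpObj.comp_inv, mul_inv_eq_one]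
    refine Over.OverMorphism.ext (pullback.hom_ext ?_ ?_)
    · rw [Over.comp_left, Over.comp_left, Category.assoc, Category.assoc, wmap_fst, wmap_fst, ← Category.assoc,
        ← Category.assoc y.left]
      congr 1
      refine pullback.hom_ext ?_ ?_
      · simp [P, p]
      · simp only [Category.assoc, pullback.lift_snd]
        have hy : y.left ≫ pullback.snd H.hom p = q ≫ δ := (Over.w y).trans hq.symm
        rw [reassoc_of% hy, reassoc_of% hy]
        simp [δ, P]
    · exact (Over.w (y ≫ w₁)).trans (Over.w (y ≫ w₂)).symm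
  have hall : ∀ z : P, z ∈ O := by
    intro z
    let s : S := p z
    let Ω : Type u := AlgebraicClosure (S.residueField s)
    let XΩ := pullback π (Red.geomPt s)
    haveI := hconn s
    haveI hgc : GeometricallyConnected (pullback.snd π (Red.geomPt s)) :=
      SweepSix.GeomConn.gc_of_isAlgClosed (k := Ω) (pullback.snd π (Red.geomPt s))
    haveI : Subsingleton (Spec (CommRingCat.of Ω)) := inferInstanceAs (Subsingleton (PrimeSpectrum Ω))
    haveI : UniversallyOpen (pullback.snd π (Red.geomPt s)) := inferInstance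
    let PΩ := pullback (pullback.snd π (Red.geomPt s)) (pullback.snd π (Red.geomPt s))
    haveI : ConnectedSpace PΩ := inferInstance
    let c : PΩ ⟶ P := pullback.lift (pullback.fst _ _ ≫ pullback.fst _ _) (pullback.snd _ _ ≫ pullback.fst _ _) (by
      rw [Category.assoc, Category.assoc, pullback.condition, pullback.condition_assoc])
    have hclopen : IsClopen (c ⁻¹' (O : Set P)) := ⟨hO.preimage c.continuous, O.2.preimage c.continuous⟩
    -- a diagonal point
    obtain ⟨x₀⟩ : Nonempty XΩ := inferInstance
    let dΩ : XΩ ⟶ PΩ := pullback.lift (𝟙 _) (𝟙 _) rfl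
    have hd : dΩ ≫ c = pullback.fst π (Red.geomPt s) ≫ δ := by
      refine pullback.hom_ext ?_ ?_ <;> (simp [dΩ, c, δ, PΩ, XΩ, P]; exact Category.id_comp _)
    have hd₀ : dΩ x₀ ∈ c ⁻¹' (O : Set P) := by
      show c (dΩ x₀) ∈ O
      rw [← Scheme.Hom.comp_apply, hd, Scheme.Hom.comp_apply, hmem]
      let a := pullback.fst π (Red.geomPt s) x₀
      have h1 : TrivLocus.Triv d (S'.fromSpecResidueField a ≫ δ) := hδ.comp _
      rw [TrivLocus.triv_field_iff (F := S'.residueField a)] at h1
      have ea : (S'.fromSpecResidueField a ≫ δ) (IsLocalRing.closedPoint (S'.residueField a)) = δ a :=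
        congrArg δ (Scheme.fromSpecResidueField_apply _ _)
      exact (congrArg (fun b => TrivLocus.Triv d (P.fromSpecResidueField b)) ea).mp h1
    have huniv := hclopen.eq_univ ⟨_, hd₀⟩
    -- every point of the fibre comes from the geometric fibre
    have sq : ∀ y : P, p y = s → y ∈ Set.range c := by
      intro y hy
      let e : pullback p (Red.geomPt s) ⟶ PΩ := pullback.lift
        (pullback.lift (pullback.fst _ _ ≫ pullback.fst π π) (pullback.snd _ _) (by
          rw [Category.assoc]; exact pullback.condition))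
        (pullback.lift (pullback.fst _ _ ≫ pullback.snd π π) (pullback.snd _ _) (by
          rw [Category.assoc, ← pullback.condition (f := π) (g := π)]; exact pullback.condition))
        (by rw [pullback.lift_snd, pullback.lift_snd])
      have he : e ≫ c = pullback.fst p (Red.geomPt s) := by
        refine pullback.hom_ext ?_ ?_ <;> simp [e, c, PΩ, P, p]
      obtain ⟨w, hw, -⟩ := Scheme.Pullback.exists_preimage_pullback (f := p) (g := Red.geomPt s) y
        (IsLocalRing.closedPoint Ω) (by
          rw [hy]
          exact (Scheme.fromSpecResidueField_apply _ _).symm)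
      exact ⟨e w, by rw [← Scheme.Hom.comp_apply, he, hw]⟩
    obtain ⟨b, hb⟩ := sq z rfl
    rw [← hb]
    have : b ∈ c ⁻¹' (O : Set P) := huniv ▸ trivial
    exact this
  have htop : O = ⊤ := TopologicalSpace.Opens.ext (Set.eq_univ_of_forall hall)
  have hid : TrivLocus.Triv d (𝟙 P) := by
    haveI : IsIso O.ι := by rw [htop]; exact (Scheme.topIso P).isIso_hom
    have := htriv.comp (inv O.ι)
    rwa [IsIso.inv_hom_id] at this
  have := hid (Red.bc p H) (Red.bc p H).hom (Category.comp_id _) (𝟙 _)
  rw [Category.id_comp, mul_inv_eq_one] at this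
  exact this

/-- Central homomorphisms descend. -/
theorem existsUnique_desc [Flat π] [Surjective π]
    (hcov : ∀ V : S.Opens, IsAffineOpen V → ∃ W : S'.Opens, IsCompact (W : Set S') ∧ π.base '' (W : Set S') = (V : Set S))
    (hH : SGA3x.IsMultTypeFT H) (hconn : ∀ s : S, ConnectedSpace ↥(pullback π (Red.geomPt s)))
    (u' : Red.bc π H ⟶ Red.bc π G) [IsMonHom u'] (hc : MultLift.Central u') :
    ∃! u : H ⟶ G, IsMonHom u ∧ (Over.pullback π).map u = u' := by
  let e : pullback H.hom π ⟶ H.left := pullback.fst _ _
  haveI : EffectiveEpi e := effectiveEpi_pullback_fst π hcov H.hom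
  let f : pullback H.hom π ⟶ G.left := u'.left ≫ pullback.fst G.hom π
  have hf : ∀ {Z : Scheme.{u}} (g₁ g₂ : Z ⟶ pullback H.hom π), g₁ ≫ e = g₂ ≫ e → g₁ ≫ f = g₂ ≫ f := by
    intro Z g₁ g₂ hg
    let l : Z ⟶ pullback π π := pullback.lift (g₁ ≫ pullback.snd _ _) (g₂ ≫ pullback.snd _ _) (by
      rw [Category.assoc, Category.assoc, ← pullback.condition]
      exact congrArg (· ≫ H.hom) hg |> fun h => by simpa [e, Category.assoc] using h)
    let m : Z ⟶ pullback H.hom (pullback.fst π π ≫ π) := pullback.lift (g₁ ≫ e) l (by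
      simp only [e, l, Category.assoc, pullback.lift_fst_assoc]
      rw [pullback.condition])
    have h1 := congrArg (fun w => m ≫ w.left ≫ pullback.fst G.hom (pullback.fst π π ≫ π))
      (wmap_eq π hH hconn u' hc)
    simp only [wmap_fst] at h1
    rw [← Category.assoc, ← Category.assoc m] at h1
    have e₁ : m ≫ pullback.lift (pullback.fst H.hom (pullback.fst π π ≫ π))
        (pullback.snd H.hom _ ≫ pullback.fst π π) (by rw [Category.assoc]; exact pullback.condition) = g₁ := by
      refine pullback.hom_ext ?_ ?_ <;> simp [m, l, e]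
    have e₂ : m ≫ pullback.lift (pullback.fst H.hom (pullback.fst π π ≫ π))
        (pullback.snd H.hom _ ≫ pullback.snd π π)
          (by rw [Category.assoc, ← pullback.condition (f := π) (g := π)]; exact pullback.condition) = g₂ := by
      refine pullback.hom_ext ?_ ?_
      · simpa [m, e] using hg
      · simp [m, l]
    rwa [e₁, e₂] at h1
  let ul : H.left ⟶ G.left := EffectiveEpi.desc e f hf
  have hul : e ≫ ul = f := EffectiveEpi.fac e f hf
  let u : H ⟶ G := Over.homMk ul (by
    rw [← cancel_epi e, ← Category.assoc, hul, Category.assoc]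
    show u'.left ≫ pullback.fst G.hom π ≫ G.hom = pullback.fst H.hom π ≫ H.hom
    rw [pullback.condition, pullback.condition]
    exact Over.w u' =≫ π)
  let F := Over.pullback π
  have hu : F.map u = u' := by
    refine Over.OverMorphism.ext (pullback.hom_ext ?_ ?_)
    · rw [ActBC.pullback_map_left_fst]
      exact hul
    · exact (Over.w (F.map u)).trans (Over.w u').symm
  have hinj : ∀ {X Y : Over S} (a b : X ⟶ Y), F.map a = F.map b → a = b := by
    intro X Y a b hab
    haveI : EffectiveEpi (pullback.fst X.hom π) := effectiveEpi_pullback_fst π hcov X.hom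
    refine Over.OverMorphism.ext ?_
    rw [← cancel_epi (pullback.fst X.hom π), ← ActBC.pullback_map_left_fst, ← ActBC.pullback_map_left_fst, hab]
  refine ⟨u, ⟨⟨?_, ?_⟩, hu⟩, fun v hv => hinj v u (hv.2.trans hu.symm)⟩
  · apply hinj
    have h1 : η[Red.bc π H] ≫ u' = η[Red.bc π G] := IsMonHom.one_hom u'
    rw [← hu, Functor.obj.η_def, Functor.obj.η_def, Category.assoc] at h1
    rw [F.map_comp]
    exact (cancel_epi _).1 h1
  · apply hinj
    have h1 : μ[Red.bc π H] ≫ u' = (u' ⊗ₘ u') ≫ μ[Red.bc π G] := IsMonHom.mul_hom u'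
    rw [← hu, Functor.obj.μ_def, Functor.obj.μ_def, Category.assoc, ← Category.assoc (F.map u ⊗ₘ F.map u),
      Functor.LaxMonoidal.μ_natural, Category.assoc, ← F.map_comp, ← F.map_comp] at h1
    exact (cancel_epi _).1 h1

end Groth.Agent.DescHom
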